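import Mathlib

/-!
# Modules over a pinched ring

`A → B` and `A → A'` surjective with kernel `I`, `I` meeting the kernel of `A → B` in zero and its image being an
ideal of `B`.
-/

set_option autoImplicit false
set_option backward.isDefEq.respectTransparency false
set_option backward.isDefEq.respectTransparency.types false
set_option linter.style.haveILetI false
universe u
open TensorProduct

namespace Groth.Agent.PinchLib

section general

variable {A : Type u} [CommRing A] (B : Type u) [CommRing B] [Algebra A B] (M : Type u) [AddCommGroup M] [Module A M]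

theorem rTensor_injective_of_linear {P Q : Type u} [AddCommGroup P] [Module B P] [Module A P] [IsScalarTower A B P]
    [AddCommGroup Q] [Module B Q] [Module A Q] [IsScalarTower A B Q] [Module.Flat B (B ⊗[A] M)]
    (g : P →ₗ[B] Q) (hg : Function.Injective g) :
    Function.Injective ((g.restrictScalars A).rTensor M) := by
  let eP := TensorProduct.AlgebraTensorModule.cancelBaseChange A B B P M
  let eQ := TensorProduct.AlgebraTensorModule.cancelBaseChange A B B Q M
  have hnat : ∀ z, eQ (g.rTensor (B ⊗[A] M) z) = (g.restrictScalars A).rTensor M (eP z) := fun z => by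
    induction z using TensorProduct.induction_on with
    | zero => simp
    | add a b ha hb => simp only [map_add, ha, hb]
    | tmul p t =>
      induction t using TensorProduct.induction_on with
      | zero => simp
      | add a b ha hb => simp only [TensorProduct.tmul_add, map_add, ha, hb]
      | tmul b m => simp [eP, eQ]
  intro x y hxy
  obtain ⟨x, rfl⟩ := eP.surjective x
  obtain ⟨y, rfl⟩ := eP.surjective y
  rw [← hnat, ← hnat] at hxy
  exact congrArg eP (Module.Flat.rTensor_preserves_injective_linearMap g hg (eQ.injective hxy))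

theorem subsingleton_tensor_of_linear (P : Type u) [AddCommGroup P] [Module B P] [Module A P] [IsScalarTower A B P]
    [Subsingleton (B ⊗[A] M)] : Subsingleton (P ⊗[A] M) :=
  (TensorProduct.AlgebraTensorModule.cancelBaseChange A B B P M).symm.toEquiv.subsingleton

end general

section quot

variable {A : Type u} [CommRing A] (A' : Type u) [CommRing A'] [Algebra A A']
  (hq : Function.Surjective (algebraMap A A')) (M : Type u) [AddCommGroup M] [Module A M]

include hq

theorem rTensor_injective_of_smul_eq_zero [Module.Flat A' (A' ⊗[A] M)] {P Q : Type u} [AddCommGroup P] [Module A P]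
    [AddCommGroup Q] [Module A Q] (hQ : ∀ i ∈ RingHom.ker (algebraMap A A'), ∀ x : Q, i • x = 0)
    (g : P →ₗ[A] Q) (hg : Function.Injective g) : Function.Injective (g.rTensor M) := by
  let I := RingHom.ker (algebraMap A A')
  have htQ : Module.IsTorsionBySet A Q (I : Set A) := fun x a => hQ a.1 a.2 x
  have htP : Module.IsTorsionBySet A P (I : Set A) := fun x a => hg (by rw [map_smul, map_zero]; exact hQ a.1 a.2 _)
  let e : A ⧸ I ≃+* A' := RingHom.quotientKerEquivOfSurjective hq
  letI := htP.module
  letI := htQ.module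
  letI : Module A' P := Module.compHom P e.symm.toRingHom
  letI : Module A' Q := Module.compHom Q e.symm.toRingHom
  have he : ∀ a : A, e.symm (algebraMap A A' a) = Ideal.Quotient.mk I a := fun a => e.injective (by
    rw [e.apply_symm_apply]; rfl)
  haveI : IsScalarTower A A' P := .of_algebraMap_smul fun a x => by
    show e.symm (algebraMap A A' a) • x = a • x
    rw [he]; rfl
  haveI : IsScalarTower A A' Q := .of_algebraMap_smul fun a x => by
    show e.symm (algebraMap A A' a) • x = a • x
    rw [he]; rfl
  let g' : P →ₗ[A'] Q :=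
    { toFun := g, map_add' := map_add g
      map_smul' := fun c x => by
        obtain ⟨a, rfl⟩ := hq c
        simp only [RingHom.id_apply, algebraMap_smul, map_smul] }
  exact rTensor_injective_of_linear A' M g' hg

/-- a submodule containing `I` times the module, given the image that accounts for it -/
theorem rTensor_subtype_injective [Module.Flat A' (A' ⊗[A] M)] {G F : Type u} [AddCommGroup G] [Module A G]
    [AddCommGroup F] [Module A F] (jf : G →ₗ[A] F) (hjinj : Function.Injective (jf.rTensor M))
    (htop : ∀ i ∈ RingHom.ker (algebraMap A A'), ∀ t : F, i • t ∈ LinearMap.range jf)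
    (P' : Submodule A F) (hjf : ∀ y, jf y ∈ P') : Function.Injective (P'.subtype.rTensor M) := by
  let j : G →ₗ[A] P' := jf.codRestrict P' hjf
  let gq : (P' ⧸ LinearMap.range j) →ₗ[A] (F ⧸ LinearMap.range jf) :=
    Submodule.mapQ _ _ P'.subtype (by rintro _ ⟨y, rfl⟩; exact ⟨y, rfl⟩)
  have hgq : Function.Injective gq := (injective_iff_map_eq_zero gq).2 fun t ht => by
    obtain ⟨t, rfl⟩ := Submodule.mkQ_surjective _ t
    obtain ⟨y, hy⟩ := (Submodule.Quotient.mk_eq_zero _).1 ht
    exact (Submodule.Quotient.mk_eq_zero _).2 ⟨y, Subtype.ext hy⟩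
  have hgqM := rTensor_injective_of_smul_eq_zero A' hq M (fun i hi t => by
    obtain ⟨t, rfl⟩ := Submodule.mkQ_surjective _ t
    rw [← map_smul]
    exact (Submodule.Quotient.mk_eq_zero _).2 (htop i hi t)) gq hgq
  refine (injective_iff_map_eq_zero _).2 fun x hx => ?_
  have h1 : ((LinearMap.range j).mkQ.rTensor M) x = 0 := hgqM (by
    rw [map_zero, ← LinearMap.rTensor_comp_apply,
      show gq ∘ₗ (LinearMap.range j).mkQ = (LinearMap.range jf).mkQ ∘ₗ P'.subtype from
        Submodule.mapQ_mkQ _ _ _, LinearMap.rTensor_comp_apply, hx, map_zero])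
  obtain ⟨y, rfl⟩ := (rTensor_exact M (LinearMap.exact_map_mkQ_range j) (Submodule.mkQ_surjective _) x).1 h1
  rw [← LinearMap.rTensor_comp_apply] at hx
  rw [hjinj (a₁ := y) (a₂ := 0) (hx.trans (map_zero _).symm), map_zero]

theorem exists_of_rTensor_eq_zero {F Q : Type u} [AddCommGroup F] [Module A F] [AddCommGroup Q] [Module A Q]
    (π : F →ₗ[A] Q) (hπ : Function.Surjective π) {y : F ⊗[A] M} (hy : π.rTensor M y = 0) :
    ∃ r, (LinearMap.ker π).subtype.rTensor M r = y :=
  have _ := hq
  (rTensor_exact M (LinearMap.exact_subtype_ker_map π) hπ y).1 hy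

end quot

section pinch

variable {A : Type u} [CommRing A] (B A' : Type u) [CommRing B] [Algebra A B] [CommRing A'] [Algebra A A']
  (hq : Function.Surjective (algebraMap A A'))
  (hinj : RingHom.ker (algebraMap A B) ⊓ RingHom.ker (algebraMap A A') = ⊥)
  (hsurj : ∀ b ∈ Ideal.map (algebraMap A B) (RingHom.ker (algebraMap A A')),
    ∃ i ∈ RingHom.ker (algebraMap A A'), algebraMap A B i = b)
  (M : Type u) [AddCommGroup M] [Module A M]


/-- the kernel of the surjection into its extension -/
noncomputable def toExt : (RingHom.ker (algebraMap A A')) →ₗ[A] ((RingHom.ker (algebraMap A A')).map (algebraMap A B) : Ideal B) where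
  toFun i := ⟨algebraMap A B i.1, Ideal.mem_map_of_mem _ i.2⟩
  map_add' _ _ := Subtype.ext (map_add _ _ _)
  map_smul' a i := Subtype.ext (by simp [Algebra.smul_def])

include hinj hsurj in
theorem toExt_bijective : Function.Bijective (toExt (A := A) B A') := by
  constructor
  · intro x y h
    have h0 : algebraMap A B (x.1 - y.1) = 0 := by
      rw [map_sub, sub_eq_zero]; exact congrArg Subtype.val h
    exact Subtype.ext (sub_eq_zero.1 (Ideal.mem_bot.1 (hinj.le ⟨h0, sub_mem x.2 y.2⟩)))
  · rintro ⟨b, hb⟩
    obtain ⟨i, hi, rfl⟩ := hsurj b hb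
    exact ⟨⟨i, hi⟩, rfl⟩

include hinj hsurj in
theorem rTensor_ker_injective [Module.Flat B (B ⊗[A] M)] :
    Function.Injective (((RingHom.ker (algebraMap A A')).subtype).rTensor M) := by
  have h1 : Function.Injective ((toExt (A := A) B A').rTensor M) :=
    (TensorProduct.congr (LinearEquiv.ofBijective _ (toExt_bijective B A' hinj hsurj)) (LinearEquiv.refl A M)).injective
  have h2 := rTensor_injective_of_linear (A := A) B M (((RingHom.ker (algebraMap A A')).map (algebraMap A B) : Ideal B).subtype) Subtype.val_injective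
  have h3 : (Algebra.linearMap A B).rTensor M ∘ₗ ((RingHom.ker (algebraMap A A')).subtype).rTensor M =
      ((((RingHom.ker (algebraMap A A')).map (algebraMap A B) : Ideal B).subtype).restrictScalars A).rTensor M ∘ₗ (toExt (A := A) B A').rTensor M := by
    rw [← LinearMap.rTensor_comp, ← LinearMap.rTensor_comp]; rfl
  have h4 : Function.Injective ((Algebra.linearMap A B).rTensor M ∘ₗ ((RingHom.ker (algebraMap A A')).subtype).rTensor M) := by
    rw [h3]; exact h2.comp h1
  exact Function.Injective.of_comp h4

include hq hinj hsurj in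
/-- tensoring preserves injections whose range contains `(RingHom.ker (algebraMap A A'))` times the target -/
theorem rTensor_injective_of_smul_mem [Module.Flat B (B ⊗[A] M)] [Module.Flat A' (A' ⊗[A] M)]
    {P Q : Type u} [AddCommGroup P] [Module A P] [AddCommGroup Q] [Module A Q]
    (g : P →ₗ[A] Q) (hg : Function.Injective g) (hI : ∀ i ∈ (RingHom.ker (algebraMap A A')), ∀ x : Q, i • x ∈ LinearMap.range g) :
    Function.Injective (g.rTensor M) := by
  classical
  let π : (Q →₀ A) →ₗ[A] Q := Finsupp.linearCombination A id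
  have hπ : Function.Surjective π := fun x => ⟨Finsupp.single x 1, by simp [π]⟩
  let P' : Submodule A (Q →₀ A) := (LinearMap.range g).comap π
  let jf : (Q →₀ (RingHom.ker (algebraMap A A'))) →ₗ[A] (Q →₀ A) := Finsupp.mapRange.linearMap (RingHom.ker (algebraMap A A')).subtype
  have hjf : ∀ y, jf y ∈ P' := fun y => by
    induction y using Finsupp.induction_linear with
    | zero => rw [map_zero]; exact zero_mem _
    | add a b ha hb => rw [map_add]; exact add_mem ha hb
    | single x i =>
      show π (jf (Finsupp.single x i)) ∈ LinearMap.range g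
      simp only [jf, π, Finsupp.mapRange.linearMap_apply, Finsupp.mapRange_single, Finsupp.linearCombination_single]
      exact hI _ i.2 x
  -- the free case
  have step : Function.Injective (P'.subtype.rTensor M) := by
    have hjinj : Function.Injective (jf.rTensor M) := by
      have hc : ∀ z, TensorProduct.finsuppLeft A A A M Q (jf.rTensor M z) =
          Finsupp.mapRange.linearMap ((RingHom.ker (algebraMap A A')).subtype.rTensor M)
            (TensorProduct.finsuppLeft A A (RingHom.ker (algebraMap A A')) M Q z) := fun z => by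
        induction z using TensorProduct.induction_on with
        | zero => simp
        | add a b ha hb => simp only [map_add, ha, hb]
        | tmul y m => ext x; simp [jf, TensorProduct.finsuppLeft_apply_tmul_apply]
      intro z z' hz
      have := congrArg (TensorProduct.finsuppLeft A A A M Q) hz
      rw [hc, hc] at this
      exact (TensorProduct.finsuppLeft A A (RingHom.ker (algebraMap A A')) M Q).injective
        (Finsupp.mapRange_injective _ (map_zero _) (rTensor_ker_injective B A' hinj hsurj M) this)
    refine rTensor_subtype_injective A' hq M jf hjinj (fun i hi t => ?_) P' hjf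
    refine ⟨t.mapRange (fun a => ⟨i * a, Ideal.mul_mem_right a _ hi⟩) (Subtype.ext (mul_zero i)), ?_⟩
    ext x
    simp [jf]
  -- descend
  let eg : P ≃ₗ[A] LinearMap.range g := LinearEquiv.ofInjective g hg
  let π' : P' →ₗ[A] P := eg.symm.toLinearMap ∘ₗ (π.restrict fun _ h => h)
  have hπ'g : g ∘ₗ π' = π ∘ₗ P'.subtype := LinearMap.ext fun t => by
    show g (eg.symm _) = π t.1
    exact congrArg Subtype.val (eg.apply_symm_apply ⟨π t.1, t.2⟩)
  have hπ' : Function.Surjective π' := fun p => by
    obtain ⟨t, ht⟩ := hπ (g p)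
    exact ⟨⟨t, ⟨p, ht.symm⟩⟩, hg ((LinearMap.congr_fun hπ'g ⟨t, ⟨p, ht.symm⟩⟩).trans ht)⟩
  let k : LinearMap.ker π →ₗ[A] P' := Submodule.inclusion (fun t ht => by
    show π t ∈ LinearMap.range g
    rw [LinearMap.mem_ker.1 ht]; exact zero_mem _)
  refine (injective_iff_map_eq_zero _).2 fun x hx => ?_
  obtain ⟨x', rfl⟩ := LinearMap.rTensor_surjective M hπ' x
  rw [← LinearMap.rTensor_comp_apply, hπ'g, LinearMap.rTensor_comp_apply] at hx
  obtain ⟨r, hr⟩ := exists_of_rTensor_eq_zero A' hq M π hπ hx
  have hk : x' = k.rTensor M r := step (by rw [← LinearMap.rTensor_comp_apply]; exact hr.symm)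
  rw [hk, ← LinearMap.rTensor_comp_apply,
    show π' ∘ₗ k = 0 from LinearMap.ext fun t => hg (((LinearMap.congr_fun hπ'g (k t)).trans t.2).trans (map_zero g).symm),
    LinearMap.rTensor_zero, LinearMap.zero_apply]

include hq hinj hsurj in
/-- flatness over a pinched ring -/
theorem flat_of_flat_pair [Module.Flat B (B ⊗[A] M)] [Module.Flat A' (A' ⊗[A] M)] : Module.Flat A M := by
  refine Module.Flat.iff_rTensor_injective'.2 fun J => ?_
  let J' : Ideal A := J ⊓ (RingHom.ker (algebraMap A A'))
  let K : Ideal B := J'.map (algebraMap A B)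
  have hJK : K ≤ (RingHom.ker (algebraMap A A')).map (algebraMap A B) := Ideal.map_mono inf_le_right
  let g : J' →ₗ[A] K :=
    { toFun := fun i => ⟨algebraMap A B i.1, Ideal.mem_map_of_mem _ i.2⟩
      map_add' := fun _ _ => Subtype.ext (map_add _ _ _)
      map_smul' := fun a i => Subtype.ext (by simp [Algebra.smul_def]) }
  have hg : Function.Injective g := fun x y h => by
    have h0 : algebraMap A B (x.1 - y.1) = 0 := by
      rw [map_sub, sub_eq_zero]; exact congrArg Subtype.val h
    exact Subtype.ext (sub_eq_zero.1 (Ideal.mem_bot.1 (hinj.le ⟨h0, sub_mem x.2.2 y.2.2⟩)))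
  have hI : ∀ i ∈ (RingHom.ker (algebraMap A A')), ∀ x : K, i • x ∈ LinearMap.range g := by
    intro i hi
    rintro ⟨b, hb⟩
    have key : ∀ c : B, c ∈ K → ∀ r : B, ∃ p, p ∈ J' ∧ algebraMap A B p = algebraMap A B i * r * c := by
      intro c hc
      induction hc using Submodule.span_induction with
      | mem c hc =>
        obtain ⟨a, ha, rfl⟩ := hc
        intro r
        obtain ⟨i', hi', hii'⟩ := hsurj (algebraMap A B i * r) (Ideal.mul_mem_right r _ (Ideal.mem_map_of_mem _ hi))
        exact ⟨i' * a, ⟨J.mul_mem_left i' ha.1, Ideal.mul_mem_right a _ hi'⟩, by rw [map_mul, hii']⟩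
      | zero => intro r; exact ⟨0, zero_mem _, by simp⟩
      | add c d _ _ hc hd =>
        intro r
        obtain ⟨p, hp, hpc⟩ := hc r
        obtain ⟨q, hq', hqd⟩ := hd r
        exact ⟨p + q, add_mem hp hq', by rw [map_add, hpc, hqd, mul_add]⟩
      | smul s c _ hc =>
        intro r
        obtain ⟨p, hp, hpc⟩ := hc (r * s)
        exact ⟨p, hp, by rw [hpc, smul_eq_mul]; ring⟩
    obtain ⟨p, hp, hpb⟩ := key b hb 1
    exact ⟨⟨p, hp⟩, Subtype.ext (hpb.trans (by rw [mul_one]; simp [Algebra.smul_def]))⟩
  have h1 := rTensor_injective_of_smul_mem B A' hq hinj hsurj M g hg hI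
  have h2 := rTensor_injective_of_linear (A := A) B M K.subtype Subtype.val_injective
  have hJ' : Function.Injective ((J' : Ideal A).subtype.rTensor M) := by
    have h3 : Function.Injective ((Algebra.linearMap A B).rTensor M ∘ₗ (J' : Ideal A).subtype.rTensor M) := by
      rw [← LinearMap.rTensor_comp,
        show Algebra.linearMap A B ∘ₗ (J' : Ideal A).subtype = (K.subtype.restrictScalars A) ∘ₗ g from rfl,
        LinearMap.rTensor_comp]
      exact h2.comp h1
    exact Function.Injective.of_comp h3
  let k : J' →ₗ[A] J := Submodule.inclusion inf_le_left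
  let gq : (J ⧸ LinearMap.range k) →ₗ[A] (A ⧸ (RingHom.ker (algebraMap A A'))) :=
    Submodule.mapQ _ _ J.subtype (by rintro _ ⟨y, rfl⟩; exact y.2.2)
  have hgq : Function.Injective gq := (injective_iff_map_eq_zero gq).2 fun t ht => by
    obtain ⟨t, rfl⟩ := Submodule.mkQ_surjective _ t
    exact (Submodule.Quotient.mk_eq_zero _).2 ⟨⟨t.1, t.2, (Submodule.Quotient.mk_eq_zero _).1 ht⟩, rfl⟩
  have hgqM := rTensor_injective_of_smul_eq_zero A' hq M (fun i hi t => by
    obtain ⟨t, rfl⟩ := Submodule.mkQ_surjective _ t
    rw [← map_smul]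
    exact (Submodule.Quotient.mk_eq_zero _).2 (Ideal.mul_mem_right t _ hi)) gq hgq
  refine (injective_iff_map_eq_zero _).2 fun x hx => ?_
  have h1 : ((LinearMap.range k).mkQ.rTensor M) x = 0 := hgqM (by
    rw [map_zero, ← LinearMap.rTensor_comp_apply,
      show gq ∘ₗ (LinearMap.range k).mkQ = (RingHom.ker (algebraMap A A')).mkQ ∘ₗ J.subtype from Submodule.mapQ_mkQ _ _ _,
      LinearMap.rTensor_comp_apply, hx, map_zero])
  obtain ⟨y, rfl⟩ := (rTensor_exact M (LinearMap.exact_map_mkQ_range k) (Submodule.mkQ_surjective _) x).1 h1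
  rw [← LinearMap.rTensor_comp_apply] at hx
  rw [hJ' (a₁ := y) (a₂ := 0) (hx.trans (map_zero _).symm), map_zero]

include hq hinj hsurj in
/-- a module killed by both base changes is zero -/
theorem subsingleton_of_pair [Subsingleton (B ⊗[A] M)] [Subsingleton (A' ⊗[A] M)] : Subsingleton M := by
  haveI := subsingleton_tensor_of_linear (A := A) B M (((RingHom.ker (algebraMap A A')).map (algebraMap A B) : Ideal B))
  haveI : Subsingleton ((RingHom.ker (algebraMap A A')) ⊗[A] M) :=
    (TensorProduct.congr (LinearEquiv.ofBijective _ (toExt_bijective B A' hinj hsurj))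
      (LinearEquiv.refl A M)).toEquiv.subsingleton
  have hz : ∀ m : M, ∀ i ∈ (RingHom.ker (algebraMap A A')), i • m = 0 := fun m i hi => by
    have := congrArg (TensorProduct.lift ((LinearMap.lsmul A M).comp (RingHom.ker (algebraMap A A')).subtype))
      (Subsingleton.elim ((⟨i, hi⟩ : (RingHom.ker (algebraMap A A'))) ⊗ₜ[A] m) 0)
    simpa using this
  have ht : Module.IsTorsionBySet A M ((RingHom.ker (algebraMap A A')) : Set A) := fun m a => hz m a.1 a.2
  let e : A ⧸ (RingHom.ker (algebraMap A A')) ≃+* A' := RingHom.quotientKerEquivOfSurjective hq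
  letI := ht.module
  letI : Module A' M := Module.compHom M e.symm.toRingHom
  haveI : IsScalarTower A A' M := .of_algebraMap_smul fun a x => by
    show e.symm (algebraMap A A' a) • x = a • x
    rw [show e.symm (algebraMap A A' a) = Ideal.Quotient.mk _ a from e.injective (by rw [e.apply_symm_apply]; rfl)]
    rfl
  let f : A' ⊗[A] M →ₗ[A'] M := LinearMap.liftBaseChange A' (LinearMap.id : M →ₗ[A] M)
  exact Function.Surjective.subsingleton (f := f) fun m => ⟨1 ⊗ₜ m, by simp [f]⟩

include hq hinj hsurj in
/-- finiteness over a pinched ring -/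
theorem finite_of_finite_pair [hB : Module.Finite B (B ⊗[A] M)] [hA : Module.Finite A' (A' ⊗[A] M)] :
    Module.Finite A M := by
  classical
  have key : ∀ (C : Type u) [CommRing C] [Algebra A C], Module.Finite C (C ⊗[A] M) →
      ∃ S : Finset M, Submodule.span C ((fun m => (1 : C) ⊗ₜ[A] m) '' (S : Set M)) = ⊤ := by
    intro C _ _ hC
    obtain ⟨T, hT⟩ := hC.fg_top
    choose s hs using fun t : C ⊗[A] M => TensorProduct.exists_finset t
    refine ⟨T.biUnion fun t => (s t).image Prod.snd, top_le_iff.1 (hT ▸ Submodule.span_le.2 fun t ht => ?_)⟩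
    rw [SetLike.mem_coe, hs t]
    refine Submodule.sum_mem _ fun p hp => ?_
    rw [show p.1 ⊗ₜ[A] p.2 = p.1 • ((1 : C) ⊗ₜ[A] p.2) by rw [TensorProduct.smul_tmul', smul_eq_mul, mul_one]]
    exact Submodule.smul_mem _ _ (Submodule.subset_span ⟨p.2, Finset.mem_coe.2 (Finset.mem_biUnion.2 ⟨t, Finset.mem_coe.1 ht,
      Finset.mem_image_of_mem _ hp⟩), rfl⟩)
  obtain ⟨S₁, h₁⟩ := key B hB
  obtain ⟨S₂, h₂⟩ := key A' hA
  let M₀ : Submodule A M := Submodule.span A ((S₁ ∪ S₂ : Finset M) : Set M)
  have hsub : ∀ (C : Type u) [CommRing C] [Algebra A C] (S : Finset M), S ⊆ S₁ ∪ S₂ →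
      Submodule.span C ((fun m => (1 : C) ⊗ₜ[A] m) '' (S : Set M)) = ⊤ → Subsingleton (C ⊗[A] (M ⧸ M₀)) := by
    intro C _ _ S hS hspan
    refine subsingleton_of_forall_eq 0 fun t => ?_
    obtain ⟨t, rfl⟩ := LinearMap.baseChange_surjective (A := C) (Submodule.mkQ_surjective M₀) t
    have ht : t ∈ Submodule.span C ((fun m => (1 : C) ⊗ₜ[A] m) '' (S : Set M)) := hspan ▸ Submodule.mem_top
    induction ht using Submodule.span_induction with
    | mem x hx =>
      obtain ⟨m, hm, rfl⟩ := hx
      rw [LinearMap.baseChange_tmul,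
        show M₀.mkQ m = 0 from (Submodule.Quotient.mk_eq_zero _).2 (Submodule.subset_span (Finset.mem_coe.2 (hS hm))),
        TensorProduct.tmul_zero]
    | zero => rw [map_zero]
    | add a b _ _ ha hb => rw [map_add, ha, hb, add_zero]
    | smul c a _ ha => rw [map_smul, ha, smul_zero]
  haveI := hsub B S₁ Finset.subset_union_left h₁
  haveI := hsub A' S₂ Finset.subset_union_right h₂
  haveI := subsingleton_of_pair B A' hq hinj hsurj (M ⧸ M₀)
  exact Module.finite_def.2 ⟨S₁ ∪ S₂, Submodule.Quotient.subsingleton_iff.1 inferInstance⟩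

include hq hinj hsurj in
/-- finite presentation over a pinched ring, for flat modules -/
theorem finitePresentation_of_pair [Module.Flat B (B ⊗[A] M)] [Module.Flat A' (A' ⊗[A] M)]
    [Module.FinitePresentation B (B ⊗[A] M)] [Module.FinitePresentation A' (A' ⊗[A] M)] :
    Module.FinitePresentation A M := by
  haveI := flat_of_flat_pair B A' hq hinj hsurj M
  haveI := finite_of_finite_pair B A' hq hinj hsurj M
  obtain ⟨n, π, hπ⟩ := Module.Finite.exists_fin' A M
  let K := LinearMap.ker π
  have key : ∀ (C : Type u) [CommRing C] [Algebra A C] [Module.FinitePresentation C (C ⊗[A] M)],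
      Module.Finite C (C ⊗[A] K) := by
    intro C _ _ _
    have hinjK : Function.Injective (K.subtype.baseChange C) := by
      exact LinearMap.lTensor_injective_of_exact_of_flat π hπ K.subtype Subtype.val_injective (LinearMap.exact_subtype_ker_map π) C
    have hker : LinearMap.range (K.subtype.baseChange C) = LinearMap.ker (π.baseChange C) := by
      ext t
      exact ((lTensor_exact C (LinearMap.exact_subtype_ker_map π) hπ) t).symm
    have hfg : (LinearMap.ker (π.baseChange C)).FG :=
      Module.FinitePresentation.fg_ker _ (LinearMap.lTensor_surjective C hπ)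
    rw [← hker] at hfg
    haveI := Module.Finite.iff_fg.2 hfg
    exact Module.Finite.equiv (LinearEquiv.ofInjective _ hinjK).symm
  haveI := key B
  haveI := key A'
  haveI := finite_of_finite_pair B A' hq hinj hsurj K
  exact Module.finitePresentation_of_surjective π hπ (Module.Finite.iff_fg.1 ‹Module.Finite A K›)

end pinch

end Groth.Agent.PinchLib
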