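import Mathlib
import Groth.Prelude.Def_FlatMod2
import Groth.Agent.PinchLib.Algebra
import Groth.Agent.QCoh.PullbackBC
import Groth.Agent.QCoh.LocFree
import Groth.Agent.QCoh.Support
import Groth.Agent.QCoh.Devissage

/-!
# Quasi-coherent modules on a pinching
-/

set_option autoImplicit false
set_option linter.style.haveILetI false
set_option backward.isDefEq.respectTransparency false
set_option backward.isDefEq.respectTransparency.types false
universe u

open CategoryTheory CategoryTheory.Limits AlgebraicGeometry TopologicalSpace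
open scoped TensorProduct

namespace Groth.Agent.PinchLib

variable {X Y Y' : Scheme.{u}}

theorem exists_baseChange_equiv (φ : X ⟶ Y) [IsAffineHom φ] {G : Y.Modules} (hG : Coh.IsQCoh G) {V : Y.Opens}
    (hV : IsAffineOpen V) :
    letI := (φ.app V).hom.toAlgebra
    Nonempty (Γ(X, φ ⁻¹ᵁ V) ⊗[Γ(Y, V)] Γ(G, V) ≃ₗ[Γ(X, φ ⁻¹ᵁ V)]
      Γ((Scheme.Modules.pullback φ).obj G, φ ⁻¹ᵁ V)) := by
  letI := (φ.app V).hom.toAlgebra
  letI : Module Γ(Y, V) Γ((Scheme.Modules.pullback φ).obj G, φ ⁻¹ᵁ V) := Module.compHom _ (φ.app V).hom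
  haveI : IsScalarTower Γ(Y, V) Γ(X, φ ⁻¹ᵁ V) Γ((Scheme.Modules.pullback φ).obj G, φ ⁻¹ᵁ V) :=
    .of_algebraMap_smul fun _ _ => rfl
  have e : ∀ r, φ.appLE V (φ ⁻¹ᵁ V) le_rfl r = φ.app V r := fun r => by
    rw [← Scheme.Hom.app_eq_appLE]
  let l : Γ(G, V) →ₗ[Γ(Y, V)] Γ((Scheme.Modules.pullback φ).obj G, φ ⁻¹ᵁ V) :=
    { toFun := QCoh.pullSec φ G le_rfl
      map_add' := QCoh.pullSec_add φ G le_rfl
      map_smul' := fun r m => (QCoh.pullSec_smul φ G le_rfl r m).trans (congrArg (· • _) (e r)) }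
  exact ⟨(QCoh.isBaseChange_pullback hV φ (hV.preimage φ) hG le_rfl (fun r => (e r).symm) l fun _ => rfl).equiv⟩

theorem isOpenCover_preimage (φ : X ⟶ Y) : IsOpenCover fun V : Y.affineOpens => φ ⁻¹ᵁ V.1 := by
  show ⨆ V : Y.affineOpens, φ ⁻¹ᵁ V.1 = ⊤
  rw [← Scheme.Hom.preimage_iSup, iSup_affineOpens_eq_top]; rfl

theorem flat_pullback (φ : X ⟶ Y) [IsAffineHom φ] {G : Y.Modules} (hG : Coh.IsQCoh G) (h : FlatMod.IsFlat G) :
    FlatMod.IsFlat ((Scheme.Modules.pullback φ).obj G) := fun x => by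
  obtain ⟨V, hV, hx, -⟩ := exists_isAffineOpen_mem_and_subset (x := φ x) (U := ⊤) trivial
  letI := (φ.app V).hom.toAlgebra
  haveI := (QCoh.flat_sections_iff hG hV).2 fun y _ => h y
  obtain ⟨e⟩ := exists_baseChange_equiv φ hG hV
  exact (QCoh.flat_sections_iff (QCoh.isQCoh_pullback φ hG) (hV.preimage φ)).1
    (Module.Flat.of_linearEquiv e.symm) x hx

theorem finite_pullback (φ : X ⟶ Y) [IsAffineHom φ] {G : Y.Modules} (hG : Coh.IsQCoh G) (h : CohB1.IsFT G) :
    CohB1.IsFT ((Scheme.Modules.pullback φ).obj G) :=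
  QCoh.isFT_of_finite (QCoh.isQCoh_pullback φ hG) _ (isOpenCover_preimage φ) (fun V => V.2.preimage φ) fun V => by
    letI := (φ.app V.1).hom.toAlgebra
    haveI := QCoh.finite_of_isFT hG h V.2
    obtain ⟨e⟩ := exists_baseChange_equiv φ hG V.2
    exact Module.Finite.equiv e

theorem finitePresentation_pullback (φ : X ⟶ Y) [IsAffineHom φ] {G : Y.Modules} (hG : Coh.IsQCoh G)
    (h : CohB1.IsFP G) : CohB1.IsFP ((Scheme.Modules.pullback φ).obj G) :=
  QCoh.isFP_of_finitePresentation (QCoh.isQCoh_pullback φ hG) _ (isOpenCover_preimage φ) (fun V => V.2.preimage φ)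
    fun V => by
    letI := (φ.app V.1).hom.toAlgebra
    haveI := QCoh.finitePresentation_of_isFP h V.2
    obtain ⟨e⟩ := exists_baseChange_equiv φ hG V.2
    exact Module.FinitePresentation.of_equiv e

theorem finLocFree_pullback (φ : X ⟶ Y) [IsAffineHom φ] {G : Y.Modules} (h : FlatMod.IsFinLocFree G) :
    FlatMod.IsFinLocFree ((Scheme.Modules.pullback φ).obj G) := by
  obtain ⟨hf, hp⟩ := QCoh.isFlat_and_isFP_iff.2 h
  have hG := QCoh.isQCoh_of_isFP hp
  exact QCoh.isFlat_and_isFP_iff.1 ⟨flat_pullback φ hG hf, finitePresentation_pullback φ hG hp⟩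

variable (f : X ⟶ Y) (u : Y' ⟶ Y) [IsAffineHom f] [IsClosedImmersion u]

/-- the affine-local pinching condition -/
def IsPinch : Prop := ∀ V ∈ Y.affineOpens,
  RingHom.ker (f.app V).hom ⊓ RingHom.ker (u.app V).hom = ⊥ ∧
  ∀ a ∈ Ideal.map (f.app V).hom (RingHom.ker (u.app V).hom),
    ∃ i ∈ RingHom.ker (u.app V).hom, (f.app V).hom i = a

theorem app_surjective_affine {V : Y.Opens} (hV : IsAffineOpen V) : Function.Surjective (u.app V).hom := by
  exact u.app_surjective _ hV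

variable {f u}

theorem isZero_of_pair (hM : IsPinch f u) {G : Y.Modules} (hG : Coh.IsQCoh G)
    (h1 : IsZero ((Scheme.Modules.pullback u).obj G)) (h2 : IsZero ((Scheme.Modules.pullback f).obj G)) :
    IsZero G := by
  refine QCoh.isZero_of_app_eq_zero hG fun V x => ?_
  obtain ⟨hinj, hsurj⟩ := hM V.1 V.2
  letI := (f.app V.1).hom.toAlgebra
  letI := (u.app V.1).hom.toAlgebra
  obtain ⟨e₁⟩ := exists_baseChange_equiv u hG V.2
  obtain ⟨e₂⟩ := exists_baseChange_equiv f hG V.2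
  have hz : ∀ {Z : Scheme.{u}} {N : Z.Modules} (_ : IsZero N) (W : Z.Opens), Subsingleton Γ(N, W) := fun hN W =>
    subsingleton_of_forall_eq 0 fun s => by
      have := congrArg (fun k => k.app W s) ((IsZero.iff_id_eq_zero _).1 hN)
      simpa using this
  haveI := hz h1 (u ⁻¹ᵁ V.1)
  haveI := hz h2 (f ⁻¹ᵁ V.1)
  haveI := e₁.toEquiv.subsingleton
  haveI := e₂.toEquiv.subsingleton
  haveI := subsingleton_of_pair Γ(X, f ⁻¹ᵁ V.1) Γ(Y', u ⁻¹ᵁ V.1) (app_surjective_affine u V.2) hinj hsurj Γ(G, V.1)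
  exact Subsingleton.elim _ _

theorem flat_of_pair (hM : IsPinch f u) {G : Y.Modules} (hG : Coh.IsQCoh G)
    (h1 : FlatMod.IsFlat ((Scheme.Modules.pullback u).obj G))
    (h2 : FlatMod.IsFlat ((Scheme.Modules.pullback f).obj G)) : FlatMod.IsFlat G := by
  refine (QCoh.isFlat_iff hG).2 fun V => ?_
  obtain ⟨hinj, hsurj⟩ := hM V.1 V.2
  letI := (f.app V.1).hom.toAlgebra
  letI := (u.app V.1).hom.toAlgebra
  obtain ⟨e₁⟩ := exists_baseChange_equiv u hG V.2
  obtain ⟨e₂⟩ := exists_baseChange_equiv f hG V.2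
  haveI := (QCoh.flat_sections_iff (QCoh.isQCoh_pullback u hG) (V.2.preimage u)).2 fun y _ => h1 y
  haveI := (QCoh.flat_sections_iff (QCoh.isQCoh_pullback f hG) (V.2.preimage f)).2 fun y _ => h2 y
  haveI := Module.Flat.of_linearEquiv e₁
  haveI := Module.Flat.of_linearEquiv e₂
  exact flat_of_flat_pair Γ(X, f ⁻¹ᵁ V.1) Γ(Y', u ⁻¹ᵁ V.1) (app_surjective_affine u V.2) hinj hsurj Γ(G, V.1)

theorem finite_of_pair (hM : IsPinch f u) {G : Y.Modules} (hG : Coh.IsQCoh G)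
    (h1 : CohB1.IsFT ((Scheme.Modules.pullback u).obj G))
    (h2 : CohB1.IsFT ((Scheme.Modules.pullback f).obj G)) : CohB1.IsFT G := by
  refine (QCoh.isFT_iff hG).2 fun V => ?_
  obtain ⟨hinj, hsurj⟩ := hM V.1 V.2
  letI := (f.app V.1).hom.toAlgebra
  letI := (u.app V.1).hom.toAlgebra
  obtain ⟨e₁⟩ := exists_baseChange_equiv u hG V.2
  obtain ⟨e₂⟩ := exists_baseChange_equiv f hG V.2
  haveI := QCoh.finite_of_isFT (QCoh.isQCoh_pullback u hG) h1 (V.2.preimage u)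
  haveI := QCoh.finite_of_isFT (QCoh.isQCoh_pullback f hG) h2 (V.2.preimage f)
  haveI := Module.Finite.equiv e₁.symm
  haveI := Module.Finite.equiv e₂.symm
  exact finite_of_finite_pair Γ(X, f ⁻¹ᵁ V.1) Γ(Y', u ⁻¹ᵁ V.1) (app_surjective_affine u V.2) hinj hsurj Γ(G, V.1)

theorem finLocFree_of_pair (hM : IsPinch f u) {G : Y.Modules} (hG : Coh.IsQCoh G)
    (h1 : FlatMod.IsFinLocFree ((Scheme.Modules.pullback u).obj G))
    (h2 : FlatMod.IsFinLocFree ((Scheme.Modules.pullback f).obj G)) : FlatMod.IsFinLocFree G := by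
  obtain ⟨hf1, hp1⟩ := QCoh.isFlat_and_isFP_iff.2 h1
  obtain ⟨hf2, hp2⟩ := QCoh.isFlat_and_isFP_iff.2 h2
  refine QCoh.isFlat_and_isFP_iff.1 ⟨flat_of_pair hM hG hf1 hf2, (QCoh.isFP_iff hG).2 fun V => ?_⟩
  obtain ⟨hinj, hsurj⟩ := hM V.1 V.2
  letI := (f.app V.1).hom.toAlgebra
  letI := (u.app V.1).hom.toAlgebra
  obtain ⟨e₁⟩ := exists_baseChange_equiv u hG V.2
  obtain ⟨e₂⟩ := exists_baseChange_equiv f hG V.2
  haveI := (QCoh.flat_sections_iff (QCoh.isQCoh_pullback u hG) (V.2.preimage u)).2 fun y _ => hf1 y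
  haveI := (QCoh.flat_sections_iff (QCoh.isQCoh_pullback f hG) (V.2.preimage f)).2 fun y _ => hf2 y
  haveI := Module.Flat.of_linearEquiv e₁
  haveI := Module.Flat.of_linearEquiv e₂
  haveI := QCoh.finitePresentation_of_isFP hp1 (V.2.preimage u)
  haveI := QCoh.finitePresentation_of_isFP hp2 (V.2.preimage f)
  haveI := Module.FinitePresentation.of_equiv e₁.symm
  haveI := Module.FinitePresentation.of_equiv e₂.symm
  exact finitePresentation_of_pair Γ(X, f ⁻¹ᵁ V.1) Γ(Y', u ⁻¹ᵁ V.1) (app_surjective_affine u V.2) hinj hsurj Γ(G, V.1)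

end Groth.Agent.PinchLib
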